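import Groth.Agent.ArSurfInter.Basic
import Groth.Agent.FibredSurfDim.Basic
import Groth.Agent.MdlHoriz.Pre
import Groth.Agent.FibDim.Open
import Groth.Agent.MdlInter.Torsion
import Groth.Agent.MdlInter.Genus
import Groth.Agent.ProperComp7.Main
import Groth.Agent.DimFormula.QuasiSection

/-! Every component of the closed fibre of an arithmetic surface is a vertical curve. -/

noncomputable section

open CategoryTheory CategoryTheory.Limits AlgebraicGeometry TopologicalSpace

set_option backward.isDefEq.respectTransparency false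
set_option backward.isDefEq.respectTransparency.types false
set_option linter.style.haveILetI false
set_option maxHeartbeats 1000000

universe u

namespace Groth.Agent.ArSurfInter

variable {R : Type u} [CommRing R] [IsDomain R] [IsDiscreteValuationRing R]
  {X : Over (Spec (CommRingCat.of R))}

theorem eq_or_of_point (y : Spec (CommRingCat.of R)) :
    y = IsLocalRing.closedPoint R ∨ y = (⟨⊥, Ideal.isPrime_bot⟩ : PrimeSpectrum R) := by
  by_cases h : y.asIdeal = ⊥
  · exact Or.inr (PrimeSpectrum.ext h)
  · exact Or.inl (PrimeSpectrum.ext (IsLocalRing.eq_maximalIdeal (Ideal.IsPrime.isMaximal y.2 h)))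

theorem gen_over_bot (hX : ArSurf.IsArithSurface R X) (x : X.left) (hx : ∀ z, z ⤳ x → z = x) :
    X.hom x ≠ IsLocalRing.closedPoint R := by
  haveI := isLocallyNoetherian hX
  obtain ⟨hreg, -, -, hflat, -⟩ := hX
  haveI := hflat
  intro h
  obtain ⟨ϖ, hϖ⟩ := IsDiscreteValuationRing.exists_irreducible R
  have hd : ringKrullDim (X.left.presheaf.stalk x) = 0 := by
    rw [DimFormula.ringKrullDim_stalk, DimFormula.codim_eq_zero_iff.2 hx]; rfl
  haveI := hreg x
  haveI := RegLoc6.isDomain_of_isRegularLocalRing (X.left.presheaf.stalk x)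
  haveI := Ring.krullDimLE_iff.2 hd.le
  obtain ⟨b, hb⟩ := (Ring.KrullDimLE.isField_of_isDomain (R := X.left.presheaf.stalk x)).mul_inv_cancel
    (MdlInter.pi_ne_zero (p := X.hom) hϖ.ne_zero x)
  exact (MdlInter.isUnit_pi_iff (p := X.hom) hϖ.maximalIdeal_eq x).2 h (.of_mul_eq_one _ hb)

/-- A point maximal in the closed fibre is not closed. -/
theorem not_isClosed_of_max (hX : ArSurf.IsArithSurface R X) {ξ : X.left} (hξ : ξ ∈ Models.specialFibreSet R X)
    (hmax : ∀ z ∈ Models.specialFibreSet R X, z ⤳ ξ → z = ξ) : ¬ IsClosed ({ξ} : Set X.left) := by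
  intro hcl
  haveI := isLocallyNoetherian hX
  haveI := isProper_hom hX
  have hgen := gen_over_bot hX
  obtain ⟨-, hint, hdim, hflat, -⟩ := hX
  haveI := hint
  haveI := hflat
  haveI : IsNoetherianRing (CommRingCat.of R) := inferInstanceAs (IsNoetherianRing R)
  haveI : LocallyOfFinitePresentation X.hom :=
    LocallyOfFinitePresentation.iff_locallyOfFiniteType.2 inferInstance
  set f := X.hom
  set η := genericPoint X.left
  have hη : f η = (⟨⊥, Ideal.isPrime_bot⟩ : PrimeSpectrum R) :=
    (eq_or_of_point (f η)).resolve_left (hgen η fun z hz => (hz.antisymm (genericPoint_specializes z)).eq)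
  have hξ0 : FibDim.rd f ξ = 0 := DimFormula.rd_eq_zero_of_closed f fun x' _ h => by
    have := h.mem_closure
    rwa [hcl.closure_eq, Set.mem_singleton_iff] at this
  have hη0 : FibDim.rd f η = 0 := by
    obtain ⟨z, -, hzξ, hfz, hle⟩ := FibDim.exists_rd_ge f (genericPoint_specializes ξ : η ⤳ ξ)
    have hzeq : z = ξ := hmax z (show f z = IsLocalRing.closedPoint R from hfz.trans hξ) hzξ
    exact Nat.le_zero.1 (le_trans hle (by rw [hzeq]; exact hξ0.le))
  have hall : ∀ x : X.left, FibDim.rd f x = 0 := fun x => by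
    obtain ⟨ζ, -, hζ, hle⟩ := FibDim.exists_generization_rd_ge f (x := x)
      (fun U hU => f.isOpenMap.image_mem_nhds hU) (y' := f η)
      (by rw [hη]; exact (PrimeSpectrum.le_iff_specializes _ _).1 (bot_le (α := Ideal R)))
    have hζ' := FibDim.rd_le_of_specializes f (genericPoint_specializes ζ : η ⤳ ζ) hζ.symm
    exact Nat.le_zero.1 (le_trans hle (le_trans hζ' hη0.le))
  have heq : ∀ a b : X.left, a ⤳ b → f a = f b → a = b := fun a b h he => by
    by_contra hne
    have := FibDim.rd_lt f h hne he
    rw [hall a] at this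
    omega
  have h1 : topologicalKrullDim X.left ≤ 1 := by
    rw [topologicalKrullDim, Order.krullDim_eq_of_orderIso (irreducibleSetEquivPoints (α := X.left)),
      Order.krullDim_le_one_iff]
    intro x
    rcases eq_or_of_point (f x) with hx | hx
    · refine Or.inl fun z hz => ?_
      have hz' : x ⤳ z := hz
      have hfz : f z = IsLocalRing.closedPoint R := by
        rcases eq_or_of_point (f z) with h | h
        · exact h
        · exfalso
          have h2 : f x ⤳ f z := hz'.map f.continuous
          rw [hx, h] at h2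
          have h3 : IsLocalRing.maximalIdeal R ≤ (⊥ : Ideal R) :=
            (PrimeSpectrum.le_iff_specializes (IsLocalRing.closedPoint R) ⟨⊥, Ideal.isPrime_bot⟩).2 h2
          exact IsDiscreteValuationRing.not_a_field R (le_bot_iff.1 h3)
      rw [heq x z hz' (hx.trans hfz.symm)]
    · refine Or.inr fun z _ => ?_
      rw [show x = η from (heq η x (genericPoint_specializes x) (hη.trans hx.symm)).symm]
      exact genericPoint_specializes z
  rw [hdim] at h1
  exact absurd h1 (by decide)

/-- A maximal point of the closed fibre carries a vertical curve. -/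
theorem exists_vertComp (hX : ArSurf.IsArithSurface R X) {ξ : X.left} (hξ : ξ ∈ Models.specialFibreSet R X)
    (hmax : ∀ z ∈ Models.specialFibreSet R X, z ⤳ ξ → z = ξ) :
    ∃ G : ArSurf.VertComp R X, Set.range G.ι.base = closure {ξ} := by
  obtain ⟨T, ι, hι, hT, hgen⟩ := MdlHoriz.exists_integral_closed ξ
  have hrange : Set.range ι = closure {ξ} := by rw [MdlInter.range_eq_closure_gen ι, hgen]
  have hfib : ∀ t, X.hom (ι t) = IsLocalRing.closedPoint R := fun t =>
    (Models.isClosed_specialFibreSet R X).closure_subset_iff.2 (Set.singleton_subset_iff.2 hξ)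
      (hrange ▸ Set.mem_range_self t)
  let φ : R →+* Γ(T, ⊤) := Coh.toGlobal (ι ≫ X.hom)
  have hker : ∀ a ∈ IsLocalRing.maximalIdeal R, φ a = 0 := fun a ha => by
    rw [← AlgebraicGeometry.basicOpen_eq_bot_iff]
    refine Opens.ext (Set.eq_empty_iff_forall_notMem.2 fun t ht => ?_)
    haveI := isProper_hom hX
    haveI := hι
    haveI : IsProper (ι ≫ X.hom) := inferInstance
    have h2 := (ProperComp7.mem_basicOpen_toGlobal (f := ι ≫ X.hom) a t).1 ht
    rw [show (ι ≫ X.hom) t = IsLocalRing.closedPoint R from hfib t] at h2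
    exact h2 ha
  let φ' : IsLocalRing.ResidueField R →+* Γ(T, ⊤) := Ideal.Quotient.lift (IsLocalRing.maximalIdeal R) φ hker
  let hom' : T ⟶ Spec (CommRingCat.of (IsLocalRing.ResidueField R)) :=
    T.toSpecΓ ≫ Spec.map (CommRingCat.ofHom φ')
  have hw : ι ≫ X.hom = hom' ≫ Spec.map (CommRingCat.ofHom (IsLocalRing.residue R)) :=
    MdlInter.ext_of_toGlobal fun a => by
      rw [MdlInter.toGlobal_comp, MdlInter.toGlobal_comp]
      exact (MdlInter.toGlobal_toSpecΓ T _).symm
  haveI := hι
  haveI := hT
  have hdim1 : topologicalKrullDim T = 1 := by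
    haveI := hX.2.1
    refine le_antisymm ?_ ?_
    · rw [topologicalKrullDim, Order.krullDim_eq_of_orderIso (irreducibleSetEquivPoints (α := T)),
        Order.krullDim_le_one_iff]
      intro b
      by_contra hcon
      push Not at hcon
      obtain ⟨hmin, hmax'⟩ := hcon
      obtain ⟨c, hc⟩ := not_isMin_iff.1 hmin
      obtain ⟨a, ha⟩ := not_isMax_iff.1 hmax'
      have key : ∀ {p q : X.left}, p ⤳ q → ¬ q ⤳ p → closure ({q} : Set X.left) ⊂ closure {p} := fun h h' =>
        ⟨specializes_iff_closure_subset.1 h, fun h'' => h' (specializes_iff_closure_subset.2 h'')⟩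
      have mapι : ∀ {p q : T}, q < p → ι p ⤳ ι q ∧ ¬ ι q ⤳ ι p := fun h =>
        ⟨(show _ ⤳ _ from h.le).map ι.continuous,
          fun h' => h.not_ge (ι.isClosedEmbedding.isInducing.specializes_iff.1 h')⟩
      refine FibredSurfDim.no_chain hX.2.2.1.le isClosed_closure isIrreducible_singleton.closure
        isClosed_closure isIrreducible_singleton.closure isClosed_closure isIrreducible_singleton.closure
        isClosed_closure isIrreducible_singleton.closure
        (key (mapι hc).1 (mapι hc).2) (key (mapι ha).1 (mapι ha).2)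
        (key (genericPoint_specializes (ι a)) fun h => ?_)
      have h4 : ι a = genericPoint X.left := (h.antisymm (genericPoint_specializes _)).eq
      exact gen_over_bot hX (genericPoint X.left) (fun z hz => (hz.antisymm (genericPoint_specializes z)).eq)
        (h4 ▸ hfib a)
    · rw [topologicalKrullDim, Order.krullDim_eq_of_orderIso (irreducibleSetEquivPoints (α := T)),
        Order.one_le_krullDim_iff]
      obtain ⟨z, hz⟩ : ∃ z, z ≠ genericPoint T := by
        by_contra hcon
        push Not at hcon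
        refine not_isClosed_of_max hX hξ hmax ?_
        have : Set.range ι = {ξ} := Set.eq_singleton_iff_unique_mem.2
          ⟨⟨_, hgen⟩, by rintro _ ⟨t, rfl⟩; rw [hcon t]; exact hgen⟩
        rw [← this]
        exact ι.isClosedEmbedding.isClosed_range
      refine ⟨z, genericPoint T, lt_of_le_not_ge (genericPoint_specializes z) fun h => hz ?_⟩
      exact ((show z ⤳ genericPoint T from h).antisymm (genericPoint_specializes z)).eq
  exact ⟨⟨Over.mk hom', ι, hι, hT, hdim1, hw⟩, hrange⟩

theorem isIrreducible_preimage_val {T : Type u} [TopologicalSpace T] {F S : Set T} (hS : IsIrreducible S) (h : S ⊆ F) :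
    IsIrreducible (Subtype.val ⁻¹' S : Set F) := by
  obtain ⟨⟨s, hs⟩, hp⟩ := hS
  refine ⟨⟨⟨s, h hs⟩, hs⟩, fun u v hu hv ⟨a, haS, hau⟩ ⟨b, hbS, hbv⟩ => ?_⟩
  obtain ⟨u', hu', rfl⟩ := isOpen_induced_iff.1 hu
  obtain ⟨v', hv', rfl⟩ := isOpen_induced_iff.1 hv
  obtain ⟨c, hcS, hcu, hcv⟩ := hp u' v' hu' hv' ⟨a.1, haS, hau⟩ ⟨b.1, hbS, hbv⟩
  exact ⟨⟨c, h hcS⟩, hcS, hcu, hcv⟩

/-- The components of the closed fibre are finitely many vertical curves. -/
theorem exists_componentList (hX : ArSurf.IsArithSurface R X) :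
    ∃ (n : ℕ) (Γ : Fin n → ArSurf.VertComp R X), Models.IsComponentList R X Γ := by
  haveI := isLocallyNoetherian hX
  haveI := isProper_hom hX
  haveI : CompactSpace X.left := QuasiCompact.compactSpace_of_compactSpace X.hom
  haveI : IsNoetherian X.left := {}
  haveI : NoetherianSpace X.left := inferInstance
  let F := Models.specialFibreSet R X
  have hFc : IsClosed F := Models.isClosed_specialFibreSet R X
  have hcl : ∀ S ∈ Models.fibreComponents R X, IsClosed S := fun S hS =>
    closure_subset_iff_isClosed.1 (hS.2 ⟨hS.1.1.closure, hFc.closure_subset_iff.2 hS.1.2⟩ subset_closure)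
  have hfin : (Models.fibreComponents R X).Finite := by
    have h := NoetherianSpace.finite_irreducibleComponents (α := F)
    refine (h.image (Set.image Subtype.val)).subset fun S hS => ⟨Subtype.val ⁻¹' S, ?_, ?_⟩
    · refine ⟨isIrreducible_preimage_val hS.1.1 hS.1.2, fun T hT hle => ?_⟩
      have h1 : IsIrreducible (Subtype.val '' T : Set X.left) :=
        hT.image _ continuous_subtype_val.continuousOn
      have h2 := hS.2 ⟨h1, fun _ ⟨w, _, hw⟩ => hw ▸ w.2⟩ (fun s hs => ⟨⟨s, hS.1.2 hs⟩, hle hs, rfl⟩)
      exact fun t ht => h2 ⟨t, ht, rfl⟩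
    · rw [Subtype.image_preimage_coe, Set.inter_eq_right.2 hS.1.2]
  have hex : ∀ S : Models.fibreComponents R X, ∃ G : ArSurf.VertComp R X, Set.range G.ι.base = S.1 := by
    rintro ⟨S, hS⟩
    obtain ⟨ξ, hξ⟩ := QuasiSober.sober hS.1.1 (hcl S hS)
    obtain ⟨G, hG⟩ := exists_vertComp hX (hS.1.2 hξ.mem) fun z hz hzξ => by
      have h1 : S ⊆ closure {z} := hξ.def ▸ specializes_iff_closure_subset.1 hzξ
      have h2 := hS.2 ⟨isIrreducible_singleton.closure, hFc.closure_subset_iff.2 (Set.singleton_subset_iff.2 hz)⟩ h1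
      exact (hzξ.antisymm (hξ.specializes (h2 (subset_closure rfl)))).eq
    exact ⟨G, hG.trans hξ.def⟩
  choose G hG using hex
  haveI := hfin.to_subtype
  let e := Finite.equivFin (Models.fibreComponents R X)
  refine ⟨Nat.card (Models.fibreComponents R X), fun i => G (e.symm i),
    fun i j hij => e.symm.injective (Subtype.ext ((hG _).symm.trans (hij.trans (hG _)))), ?_⟩
  ext S
  refine ⟨fun ⟨i, hi⟩ => ?_, fun hS => ⟨e ⟨S, hS⟩, ?_⟩⟩
  · rw [← hi]
    show Set.range (G (e.symm i)).ι.base ∈ _
    rw [hG]
    exact (e.symm i).2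
  · show Set.range (G (e.symm (e ⟨S, hS⟩))).ι.base = S
    rw [Equiv.symm_apply_apply]
    exact hG ⟨S, hS⟩

end Groth.Agent.ArSurfInter
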