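import Groth.Agent.MdlInter.Exc
import Groth.Agent.S1684
import Groth.Agent.FibDim.LocDim
import Groth.Agent.RegLoc6.Normal
import Groth.Agent.RegUFD.Basic
import Groth.Agent.PnCoh.Chow.Proper

/-! Vertical curves on an arithmetic surface are effective Cartier divisors. -/

noncomputable section

open CategoryTheory CategoryTheory.Limits AlgebraicGeometry TopologicalSpace
open Groth.Agent.H23.PicMul
open scoped Groth.Agent.H23.PicMul

set_option backward.isDefEq.respectTransparency false
set_option backward.isDefEq.respectTransparency.types false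
set_option linter.style.haveILetI false
set_option maxHeartbeats 1000000

universe u

namespace Groth.Agent.ArSurfInter

variable {R : Type u} [CommRing R] [IsDomain R] [IsDiscreteValuationRing R]
  {X : Over (Spec (CommRingCat.of R))}

theorem isProper_hom (hX : ArSurf.IsArithSurface R X) : IsProper X.hom := by
  obtain ⟨-, -, -, -, n, i, hi, e⟩ := hX
  haveI : IsProper (CohB1.ProjSpace.toSpec n (ULift.{u} ℤ)) := PnCoh.Chow.isProper_toSpec n _
  haveI : IsProper (CohB1.ProjSpaceOver.toBase n (Spec (CommRingCat.of R))) :=
    MorphismProperty.pullback_snd _ _ inferInstance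
  haveI := hi
  rw [← e]; infer_instance

theorem isLocallyNoetherian (hX : ArSurf.IsArithSurface R X) : IsLocallyNoetherian X.left :=
  haveI := isProper_hom hX
  LocallyOfFiniteType.isLocallyNoetherian X.hom

theorem image_mem_specialFibreSet (G : ArSurf.VertComp R X) (z : G.curve.left) :
    G.ι z ∈ Models.specialFibreSet R X := by
  show X.hom (G.ι z) = IsLocalRing.closedPoint R
  have h := congrArg (fun q : G.curve.left ⟶ Spec (CommRingCat.of R) => q z) G.w
  refine h.trans ?_
  show (Spec.map (CommRingCat.ofHom (IsLocalRing.residue R))) (G.curve.hom z) = _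
  rw [show G.curve.hom z = IsLocalRing.closedPoint (IsLocalRing.ResidueField R) from
    Subsingleton.elim (α := PrimeSpectrum (IsLocalRing.ResidueField R)) _ _]
  exact IsLocalRing.comap_closedPoint (IsLocalRing.residue R)

/-- The generic point of a vertical curve has codimension one. -/
theorem ringKrullDim_stalk_gen (hX : ArSurf.IsArithSurface R X) (G : ArSurf.VertComp R X) :
    ringKrullDim (X.left.presheaf.stalk (G.ι (genericPoint G.curve.left))) = 1 := by
  haveI := isLocallyNoetherian hX
  obtain ⟨hreg, hint, hdim, hflat, -⟩ := hX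
  haveI := hint
  haveI := hflat
  set η := G.ι (genericPoint G.curve.left) with hη
  obtain ⟨ϖ, hϖ⟩ := IsDiscreteValuationRing.exists_irreducible R
  rw [DimFormula.ringKrullDim_stalk]
  have h1 : DimFormula.codim η ≠ 0 := fun h0 => by
    have hd : ringKrullDim (X.left.presheaf.stalk η) = 0 := by rw [DimFormula.ringKrullDim_stalk, h0]; rfl
    haveI := hreg η
    haveI := RegLoc6.isDomain_of_isRegularLocalRing (X.left.presheaf.stalk η)
    haveI := Ring.krullDimLE_iff.2 hd.le
    have hf : IsField (X.left.presheaf.stalk η) := Ring.KrullDimLE.isField_of_isDomain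
    obtain ⟨b, hb⟩ := hf.mul_inv_cancel (MdlInter.pi_ne_zero (p := X.hom) hϖ.ne_zero η)
    exact (MdlInter.isUnit_pi_iff (p := X.hom) hϖ.maximalIdeal_eq η).2
      (image_mem_specialFibreSet G _) (.of_mul_eq_one _ hb)
  have h2 : DimFormula.codim η < 2 := by
    obtain ⟨z, hz⟩ : ∃ z : G.curve.left, z ≠ genericPoint G.curve.left := by
      by_contra hcon
      push Not at hcon
      haveI : Subsingleton G.curve.left := ⟨fun a b => (hcon a).trans (hcon b).symm⟩
      have := topologicalKrullDim_zero_of_discreteTopology G.curve.left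
      rw [G.dim_eq] at this
      exact absurd this (by decide)
    have hsp : η ⤳ G.ι z := ((genericPoint_spec G.curve.left).specializes trivial).map G.ι.continuous
    have hne : G.ι z ≠ η := fun h => hz (G.ι.isClosedEmbedding.injective h)
    have h3 : DimFormula.cd η (G.ι z) ≠ 0 := fun h0 => hne ((DimFormula.cd_eq_zero_iff hsp).1 h0).symm
    have h4 := DimFormula.codim_mono_add hsp
    have h5 : ((DimFormula.codim (G.ι z) : ℕ∞) : WithBot ℕ∞) ≤ 2 := by
      rw [← hdim, FibDim.topologicalKrullDim_eq_iSup_codim]
      exact le_iSup (fun x : X.left => ((DimFormula.codim x : ℕ∞) : WithBot ℕ∞)) (G.ι z)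
    have h6 : DimFormula.codim (G.ι z) ≤ 2 := Nat.cast_le.1 (WithBot.coe_le_coe.1 h5 : (DimFormula.codim (G.ι z) : ℕ∞) ≤ ((2 : ℕ) : ℕ∞))
    omega
  have : DimFormula.codim η = 1 := by omega
  rw [this]
  rfl

/-- A vertical curve on a regular surface is an effective Cartier divisor. -/
theorem isEffCartier_ker (hX : ArSurf.IsArithSurface R X) (G : ArSurf.VertComp R X) :
    BlowUp.IsEffCartierIdeal G.ι.ker := by
  haveI := isLocallyNoetherian hX
  haveI : Nonempty G.ι.ker.subscheme := ⟨G.ι.toImage (genericPoint G.curve.left)⟩
  haveI : IsIntegral G.ι.ker.subscheme := isIntegral_of_isOpenImmersion (inv G.ι.toImage)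
  refine S1684.result X.left G.ι.ker ?_ fun x _ => ?_
  · have h1 : G.ι.ker.subschemeι (genericPoint G.ι.ker.subscheme) = G.ι (genericPoint G.curve.left) := by
      rw [← genericPoint_eq_of_isOpenImmersion G.ι.toImage]
      show (G.ι.toImage ≫ G.ι.imageι) _ = _
      rw [Scheme.Hom.toImage_imageι]
    rw [h1]
    exact ringKrullDim_stalk_gen hX G
  · haveI := hX.1 x
    exact RegUFD.ufd _

theorem isInvertible_idealMod (hX : ArSurf.IsArithSurface R X) (G : ArSurf.VertComp R X) :
    PicF.IsInvertible (ClSub.idealMod G.ι.ker) := by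
  haveI := isLocallyNoetherian hX
  exact (S8914.result _).2 (isEffCartier_ker hX G)

/-- An inverse of an invertible module intersects with the opposite degree. -/
theorem inter_inverse (hX : ArSurf.IsArithSurface R X) {I L : X.left.Modules} (hI : PicF.IsInvertible I)
    (hL : ClSub.IsInverseOf L I) (G : ArSurf.VertComp R X) :
    PicF.IsInvertible L ∧ ArSurf.inter R X L G = - ArSurf.inter R X I G := by
  haveI := isProper_hom hX
  have hLi : PicF.IsInvertible L := MdlInter.isInvertible_of_inv hI hL.some
  refine ⟨hLi, ?_⟩
  have h := MdlInter.inter_tensor (p := X.hom) G hLi hI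
  rw [MdlInter.inter_congr G (InvX.isInvertible_tensorMod hLi hI) CurveDeg.isInvertible_structureModule
    (cl_eq_iff.2 hL), MdlInter.inter_structure] at h
  have h' : 0 = ArSurf.inter R X L G + ArSurf.inter R X I G := h
  linarith

end Groth.Agent.ArSurfInter
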