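import Groth.Agent.ArSurfInter.Basic
import Groth.Agent.MdlInter.Euler
import Groth.Agent.CurveAlgEqLib.IdealPull
import Groth.Agent.FComplLib.IdealComap

/-! The intersection number with a divisor as the length of the intersection. -/

noncomputable section

open CategoryTheory CategoryTheory.Limits AlgebraicGeometry TopologicalSpace
open Groth.Agent.H23.PicMul
open scoped Groth.Agent.H23.PicMul

set_option backward.isDefEq.respectTransparency false
set_option backward.isDefEq.respectTransparency.types false
set_option linter.style.haveILetI false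
set_option maxHeartbeats 1000000

universe u

namespace Groth.Agent.ArSurfInter

/-- On an integral scheme the inverse image of a divisor not containing the image of the generic point is a divisor. -/
theorem isEffCartier_comap_of_gen {S Y : Scheme.{u}} [IsIntegral Y] (g : Y ⟶ S) [IsAffineHom g] {D : S.IdealSheafData}
    (hD : BlowUp.IsEffCartierIdeal D) (hη : g (genericPoint Y) ∉ (D.support : Set S)) :
    BlowUp.IsEffCartierIdeal (D.comap g) := by
  intro y
  obtain ⟨U, hyU, f, -, hf⟩ := hD (g y)
  have hW : IsAffineOpen (g ⁻¹ᵁ U.1) := U.2.preimage g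
  have hI : (D.comap g).ideal ⟨g ⁻¹ᵁ U.1, hW⟩ = Ideal.span {g.app U.1 f} := by
    rw [ModPairLib.ideal_comap D g U ⟨g ⁻¹ᵁ U.1, hW⟩ le_rfl, hf, Ideal.map_span, Set.image_singleton,
      Scheme.Hom.app_eq_appLE]
  refine ⟨⟨g ⁻¹ᵁ U.1, hW⟩, hyU, g.app U.1 f, ?_, hI⟩
  haveI : Nonempty (g ⁻¹ᵁ U.1 : Y.Opens) := ⟨⟨y, hyU⟩⟩
  refine mem_nonZeroDivisors_of_ne_zero fun h0 => ?_
  rw [h0, Ideal.span_singleton_zero] at hI
  have hgU : genericPoint Y ∈ g ⁻¹ᵁ U.1 :=
    ((genericPoint_spec Y).mem_open_set_iff (g ⁻¹ᵁ U.1).isOpen).2 ⟨y, trivial, hyU⟩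
  have h1 : genericPoint Y ∈ ((D.comap g).support : Set Y) := by
    rw [SetLike.mem_coe, Scheme.IdealSheafData.mem_support_iff_of_mem (U := ⟨g ⁻¹ᵁ U.1, hW⟩) hgU, hI,
      Scheme.mem_zeroLocus_iff]
    intro a ha
    rw [SetLike.mem_coe, Ideal.mem_bot] at ha
    subst ha
    rw [Scheme.basicOpen_zero]
    exact id
  rw [Scheme.IdealSheafData.support_comap] at h1
  exact hη h1

variable {R : Type u} [CommRing R] [IsDomain R] [IsDiscreteValuationRing R]
  {X : Over (Spec (CommRingCat.of R))}

/-- The quotient by the sum of two ideals, computed on the closed subscheme of the second one. -/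
theorem nonempty_push_quotMod {S Y : Scheme.{u}} (i : Y ⟶ S) [IsClosedImmersion i] (D : S.IdealSheafData) :
    Nonempty ((Coh.push i).obj (ClSub.quotMod (D.comap i)) ≅ ClSub.quotMod (D ⊔ i.ker)) := by
  let T := D ⊔ i.ker
  let q : T.subscheme ⟶ Y := IsClosedImmersion.lift i T.subschemeι
    (by rw [Scheme.IdealSheafData.ker_subschemeι]; exact le_sup_right)
  have hq : q ≫ i = T.subschemeι := IsClosedImmersion.lift_fac _ _ _
  haveI : IsClosedImmersion (q ≫ i) := hq ▸ inferInstance
  haveI : IsClosedImmersion q := IsClosedImmersion.of_comp q i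
  have hk : q.ker = D.comap i := by
    rw [← FComplLib.ker_comp_comap q i, hq, Scheme.IdealSheafData.ker_subschemeι,
      Scheme.IdealSheafData.comap_sup, FComplLib.ker_self_comap, sup_bot_eq]
  obtain ⟨e1⟩ := ExtShX.nonempty_push_iso_quotMod q
  rw [hk] at e1
  exact ⟨(Coh.push i).mapIso e1 ≪≫ ((Scheme.Modules.pushforwardComp q i).app _) ≪≫
    (Scheme.Modules.pushforwardCongr hq).app _⟩

/-- `D · Γ` is the dimension of the functions on the divisor `D|_Γ`. -/
theorem inter_eq_finrank (hX : ArSurf.IsArithSurface R X) (G : ArSurf.VertComp R X) {D : X.left.IdealSheafData}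
    (hD : BlowUp.IsEffCartierIdeal D) (hη : G.ι (genericPoint G.curve.left) ∉ (D.support : Set X.left))
    (L : X.left.Modules) (hL : ClSub.IsInverseOf L (ClSub.idealMod D)) :
    IsFinite ((D.comap G.ι).subschemeι ≫ (G.curve.left ↘ Spec (CommRingCat.of (IsLocalRing.ResidueField R)))) ∧
      ArSurf.inter R X L G = (Module.finrank (IsLocalRing.ResidueField R)
        (Coh.HH G.curve.left (ClSub.quotMod (D.comap G.ι)) 0) : ℤ) := by
  haveI := isProper_hom hX
  haveI := isLocallyNoetherian hX
  haveI : IsProper (G.curve.left ↘ Spec (CommRingCat.of (IsLocalRing.ResidueField R))) :=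
    MdlInter.isProper_curve (p := X.hom) G
  haveI := CurveCohLib.isNoetherian_of_proper (k := IsLocalRing.ResidueField R) (X := G.curve.left)
  have hD' := isEffCartier_comap_of_gen G.ι hD hη
  have hDi : PicF.IsInvertible (ClSub.idealMod D) := (S8914.result _).2 hD
  have hD'i : PicF.IsInvertible (ClSub.idealMod (D.comap G.ι)) := (S8914.result _).2 hD'
  have hLi := (inter_inverse hX hDi hL G).1
  obtain ⟨e⟩ := CurveAlgEqLib.nonempty_pullback_idealMod G.ι hDi hD'i
  have hL' : ClSub.IsInverseOf ((Scheme.Modules.pullback G.ι).obj L) (ClSub.idealMod (D.comap G.ι)) := by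
    refine cl_eq_iff.1 ?_
    have h1 : PicF.cl L * PicF.cl (ClSub.idealMod D) = 1 := by
      rw [← cl_tensor, one_def]; exact cl_eq_iff.2 hL
    have h2 := congrArg (pullHom G.ι) h1
    rw [map_mul, map_one] at h2
    rw [cl_tensor, ← one_def, ← h2, (cl_eq_iff.2 ⟨e⟩).symm]
    rfl
  exact (MdlInter.curveDeg_divisor (IsLocalRing.ResidueField R) G.dim_eq hD'
    (PicClLib.isInvertible_pullback G.ι hLi) hL')

/-- `D · Γ = length H⁰(O/(I_D + I_Γ))`. -/
theorem inter_eq_length (hX : ArSurf.IsArithSurface R X) (G : ArSurf.VertComp R X) {D : X.left.IdealSheafData}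
    (hD : BlowUp.IsEffCartierIdeal D) (hη : G.ι (genericPoint G.curve.left) ∉ (D.support : Set X.left))
    (L : X.left.Modules) (hL : ClSub.IsInverseOf L (ClSub.idealMod D)) :
    ArSurf.inter R X L G = (Models.lengthH R X (ClSub.quotMod (D ⊔ G.ι.ker)) 0 : ℤ) := by
  haveI := isProper_hom hX
  haveI := isLocallyNoetherian hX
  haveI : IsProper (G.curve.left ↘ Spec (CommRingCat.of (IsLocalRing.ResidueField R))) :=
    MdlInter.isProper_curve (p := X.hom) G
  haveI := CurveCohLib.isNoetherian_of_proper (k := IsLocalRing.ResidueField R) (X := G.curve.left)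
  have h := (inter_eq_finrank hX G hD hη L hL).2
  refine h.trans (congrArg (Nat.cast : ℕ → ℤ) ?_)
  obtain ⟨e2⟩ := nonempty_push_quotMod G.ι D
  haveI : IsLocallyNoetherian (D.comap G.ι).subscheme :=
    LocallyOfFiniteType.isLocallyNoetherian (D.comap G.ι).subschemeι
  have hc : Coh.IsCoh (ClSub.quotMod (D.comap G.ι)) :=
    QCoh.isCoh_pushforward_finite _ QCoh.isCoh_structureModule'
  let ρ' : R →+* Coh.Γtop G.curve.left :=
    (Coh.toGlobal (G.curve.left ↘ Spec (CommRingCat.of (IsLocalRing.ResidueField R)))).comp (IsLocalRing.residue R)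
  have hρ : ∀ a, ρ' a = G.ι.appTop (Coh.toGlobal (X.left ↘ Spec (CommRingCat.of R)) a) := by
    intro a
    have h1 := congrArg (fun q : G.curve.left ⟶ Spec (CommRingCat.of R) =>
      q.appTop ((Scheme.ΓSpecIso (CommRingCat.of R)).inv a)) G.w
    simp only [Scheme.Hom.comp_appTop, ConcreteCategory.comp_apply] at h1
    refine Eq.trans ?_ h1.symm
    refine congrArg (G.curve.hom.appTop) ?_
    exact (ConcreteCategory.congr_hom (Scheme.ΓSpecIso_inv_naturality (CommRingCat.ofHom (IsLocalRing.residue R))) a)
  obtain ⟨e3⟩ := QCoh.HH_push_linear G.ι (Coh.toGlobal (X.left ↘ Spec (CommRingCat.of R))) ρ' hρ hc.1 0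
  haveI := CurveCohLib.finite_HH (k := IsLocalRing.ResidueField R) hc 0
  letI := QCoh.modHH ρ' (ClSub.quotMod (D.comap G.ι)) 0
  unfold Models.lengthH
  rw [← (OmegaPn.HHiso R e2 0).length_eq, ← e3.length_eq,
    IntThLib.length_eq_of_surjective_map (IsLocalRing.residue R) IsLocalRing.residue_surjective
      (Coh.HH G.curve.left (ClSub.quotMod (D.comap G.ι)) 0) (fun r m => rfl),
    Module.length_eq_finrank, ENat.toNat_natCast]

/-- The generic point of a different vertical curve is outside a vertical curve. -/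
theorem gen_notMem_support (hX : ArSurf.IsArithSurface R X) (G G' : ArSurf.VertComp R X) (hne : Set.range G.ι.base ≠ Set.range G'.ι.base) :
    G.ι (genericPoint G.curve.left) ∉ (G'.ι.ker.support : Set X.left) := by
  intro h
  haveI := isProper_hom hX
  haveI : IsProper G'.curve.hom := MdlInter.isProper_curve (p := X.hom) G'
  haveI : CompactSpace G'.curve.left := QuasiCompact.compactSpace_of_compactSpace G'.curve.hom
  rw [Scheme.Hom.support_ker,
    G'.ι.isClosedEmbedding.isClosed_range.closure_eq] at h
  obtain ⟨z, hz⟩ := h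
  by_cases hgen : z = genericPoint G'.curve.left
  · apply hne
    rw [show Set.range G.ι.base = Set.range G.ι from rfl, show Set.range G'.ι.base = Set.range G'.ι from rfl,
      MdlInter.range_eq_closure_gen G.ι, MdlInter.range_eq_closure_gen G'.ι]
    show closure {G.ι (genericPoint G.curve.left)} = closure {G'.ι (genericPoint G'.curve.left)}
    rw [← hz, hgen]
  · -- otherwise `Γ` would be a point
    have hcl : IsClosed ({z} : Set G'.curve.left) := by
      by_contra hz'
      exact hgen (CurveCohLib.eq_genericPoint_of_not_isClosed G'.dim_eq hz')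
    have hsub : Subsingleton G.curve.left := ⟨fun a b => by
      have key : ∀ w : G.curve.left, G.ι w = G.ι (genericPoint G.curve.left) := fun w => by
        have h1 : G.ι (genericPoint G.curve.left) ⤳ G.ι w :=
          ((genericPoint_spec G.curve.left).specializes trivial).map G.ι.continuous
        have h2 : IsClosed ({G'.ι z} : Set X.left) := by
          have h3 := G'.ι.isClosedEmbedding.isClosedMap _ hcl
          rwa [Set.image_singleton] at h3
        exact (h1.mem_closed h2 (by rw [hz]; rfl)).trans hz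
      exact G.ι.isClosedEmbedding.injective ((key a).trans (key b).symm)⟩
    have h1 := topologicalKrullDim_zero_of_discreteTopology G.curve.left
    rw [G.dim_eq] at h1
    exact absurd h1 (by decide)

/-- `D · Γ = 0` exactly when `D` avoids `Γ`. -/
theorem inter_eq_zero_iff (hX : ArSurf.IsArithSurface R X) (G : ArSurf.VertComp R X) {D : X.left.IdealSheafData}
    (hD : BlowUp.IsEffCartierIdeal D) (hη : G.ι (genericPoint G.curve.left) ∉ (D.support : Set X.left))
    (L : X.left.Modules) (hL : ClSub.IsInverseOf L (ClSub.idealMod D)) :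
    ArSurf.inter R X L G = 0 ↔ Disjoint (Set.range G.ι.base) (D.support : Set X.left) := by
  haveI := isProper_hom hX
  haveI : IsProper (G.curve.left ↘ Spec (CommRingCat.of (IsLocalRing.ResidueField R))) :=
    MdlInter.isProper_curve (p := X.hom) G
  obtain ⟨hfin, h⟩ := inter_eq_finrank hX G hD hη L hL
  rw [h, Nat.cast_eq_zero, MdlInter.finrank_quotMod]
  set E := D.comap G.ι
  letI : E.subscheme.Over (Spec (CommRingCat.of (IsLocalRing.ResidueField R))) :=
    ⟨E.subschemeι ≫ (G.curve.left ↘ Spec (CommRingCat.of (IsLocalRing.ResidueField R)))⟩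
  letI := GeomField.globalAlgebra (IsLocalRing.ResidueField R) E.subscheme
  haveI := hfin
  haveI : Module.Finite (IsLocalRing.ResidueField R) Γ(E.subscheme, ⊤) :=
    RingHom.finite_algebraMap.1 (((E.subschemeι ≫ (G.curve.left ↘ Spec (CommRingCat.of
      (IsLocalRing.ResidueField R)))).finite_appTop).comp (RingHom.Finite.of_surjective _
        (Scheme.ΓSpecIso (CommRingCat.of (IsLocalRing.ResidueField R))).symm.commRingCatIsoToRingEquiv.surjective))
  have hrange : ∀ z : G.curve.left, z ∈ Set.range E.subschemeι ↔ G.ι z ∈ (D.support : Set X.left) := fun z => by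
    rw [Scheme.IdealSheafData.range_subschemeι, Scheme.IdealSheafData.support_comap]
    rfl
  rw [Module.finrank_zero_iff, Set.disjoint_left]
  constructor
  · rintro hs _ ⟨z, rfl⟩ hz
    obtain ⟨w, -⟩ := (hrange z).2 hz
    exact one_ne_zero (((E.subscheme.presheaf.germ ⊤ w trivial).hom.map_one.symm.trans
      (congrArg _ (Subsingleton.elim (1 : Γ(E.subscheme, ⊤)) 0))).trans (map_zero _))
  · intro hd
    haveI : IsEmpty E.subscheme := ⟨fun w => hd ⟨E.subschemeι w, rfl⟩ ((hrange _).1 ⟨w, rfl⟩)⟩
    infer_instance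

end Groth.Agent.ArSurfInter
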