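import Groth.Agent.ArSurfInter.Components
import Groth.Agent.ArSurfInter.Length
import Groth.Agent.MdlInter.Combo
import Groth.Agent.AVDualCx.Concentrated

/-! The intersection form on the closed fibre of an arithmetic surface. -/

noncomputable section

open CategoryTheory CategoryTheory.Limits AlgebraicGeometry TopologicalSpace
open Groth.Agent.H23.PicMul
open scoped Groth.Agent.H23.PicMul

set_option backward.isDefEq.respectTransparency false
set_option backward.isDefEq.respectTransparency.types false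
set_option linter.style.haveILetI false
set_option maxHeartbeats 1000000

universe u

namespace Groth.Agent.ArSurfInter

/-- The weighted square identity. -/
theorem quad_eq {n : ℕ} (M : Fin n → Fin n → ℚ) (d w : Fin n → ℚ) (hsymm : ∀ i j, M i j = M j i)
    (hker : ∀ i, ∑ j, d j * M i j = 0) :
    2 * ∑ i, ∑ j, (d i * w i) * (d j * w j) * M i j = - ∑ i, ∑ j, d i * d j * M i j * (w i - w j) ^ 2 := by
  have h1 : ∑ i, ∑ j, d i * d j * M i j * w i ^ 2 = 0 :=
    Finset.sum_eq_zero fun i _ => by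
      rw [show (∑ j, d i * d j * M i j * w i ^ 2) = d i * w i ^ 2 * ∑ j, d j * M i j by
        rw [Finset.mul_sum]; exact Finset.sum_congr rfl fun j _ => by ring, hker, mul_zero]
  have h2 : ∑ i, ∑ j, d i * d j * M i j * w j ^ 2 = 0 := by
    rw [Finset.sum_comm, ← h1]
    exact Finset.sum_congr rfl fun i _ => Finset.sum_congr rfl fun j _ => by rw [hsymm j i]; ring
  have h3 : ∑ i, ∑ j, d i * d j * M i j * (w i - w j) ^ 2 =
      ∑ i, ∑ j, d i * d j * M i j * w i ^ 2 + ∑ i, ∑ j, d i * d j * M i j * w j ^ 2 -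
        2 * ∑ i, ∑ j, (d i * w i) * (d j * w j) * M i j := by
    rw [Finset.mul_sum, ← Finset.sum_add_distrib, ← Finset.sum_sub_distrib]
    refine Finset.sum_congr rfl fun i _ => ?_
    rw [Finset.mul_sum, ← Finset.sum_add_distrib, ← Finset.sum_sub_distrib]
    exact Finset.sum_congr rfl fun j _ => by ring
  rw [h3, h1, h2]
  ring

variable {R : Type u} [CommRing R] [IsDomain R] [IsDiscreteValuationRing R]
  {X : Over (Spec (CommRingCat.of R))}

theorem setting (hX : ArSurf.IsArithSurface R X) {n : ℕ} {Γ : Fin n → ArSurf.VertComp R X}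
    (hΓ : Models.IsComponentList R X Γ) : MdlInter.Setting X.hom Γ :=
  ⟨hX.1, hX.2.2.2.1, isLocallyNoetherian hX, hΓ⟩

/-- Intersection numbers only depend on the curve in `X`. -/
theorem inter_of_iso (hX : ArSurf.IsArithSurface R X) (G₀ G : ArSurf.VertComp R X)
    (e : G₀.curve.left ≅ G.curve.left) (he : e.hom ≫ G.ι = G₀.ι) {L : X.left.Modules} (hL : PicF.IsInvertible L) :
    ArSurf.inter R X L G₀ = ArSurf.inter R X L G := by
  haveI := isProper_hom hX
  haveI := isLocallyNoetherian hX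
  haveI : IsProper (G.curve.left ↘ Spec (CommRingCat.of (IsLocalRing.ResidueField R))) :=
    MdlInter.isProper_curve (p := X.hom) G
  haveI : IsProper (G₀.curve.left ↘ Spec (CommRingCat.of (IsLocalRing.ResidueField R))) :=
    MdlInter.isProper_curve (p := X.hom) G₀
  haveI := CurveCohLib.isNoetherian_of_proper (k := IsLocalRing.ResidueField R) (X := G.curve.left)
  haveI := CurveCohLib.isNoetherian_of_proper (k := IsLocalRing.ResidueField R) (X := G₀.curve.left)
  haveI : IsClosedImmersion (Spec.map (CommRingCat.ofHom (IsLocalRing.residue R))) :=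
    IsClosedImmersion.spec_of_surjective _ IsLocalRing.residue_surjective
  have hw : e.hom ≫ (G.curve.left ↘ Spec (CommRingCat.of (IsLocalRing.ResidueField R))) =
      G₀.curve.left ↘ Spec (CommRingCat.of (IsLocalRing.ResidueField R)) := by
    rw [← cancel_mono (Spec.map (CommRingCat.ofHom (IsLocalRing.residue R))), Category.assoc]
    refine (congrArg (e.hom ≫ ·) G.w.symm).trans ?_
    rw [← Category.assoc, he]
    exact G₀.w
  let a : (Scheme.Modules.pullback G₀.ι).obj L ≅
      (Scheme.Modules.pullback e.hom).obj ((Scheme.Modules.pullback G.ι).obj L) :=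
    (Scheme.Modules.pullbackCongr he.symm).app L ≪≫ ((Scheme.Modules.pullbackComp e.hom G.ι).app L).symm
  obtain ⟨b⟩ := PicClLib.nonempty_pullback_structureModule e.hom
  have hLq := (AmpleVan.isCoh_invertible hL).1
  show ArSurf.curveDeg _ _ _ = ArSurf.curveDeg _ _ _
  rw [MdlInter.curveDeg_eq_deg _ G₀.dim_eq (QCoh.isQCoh_pullback G₀.ι hLq),
    MdlInter.curveDeg_eq_deg _ G.dim_eq (QCoh.isQCoh_pullback G.ι hLq), CurveRR.deg_congr _ a 1]
  unfold Curv2.deg
  rw [AVDualCx.euler_pullback_iso e.hom hw (QCoh.isQCoh_pullback G.ι hLq),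
    ← CurveCohLib.euler_congr (k := IsLocalRing.ResidueField R) b, AVDualCx.euler_pullback_iso e.hom hw QCoh.isQCoh_structureModule]

/-- Off the diagonal the intersection matrix is symmetric and nonnegative. -/
theorem inter_comm (hX : ArSurf.IsArithSurface R X) {n : ℕ} {Γ : Fin n → ArSurf.VertComp R X}
    (hΓ : Models.IsComponentList R X Γ) (L : Fin n → X.left.Modules)
    (hL : ∀ j, ClSub.IsInverseOf (L j) (ClSub.idealMod ((Γ j).ι.ker))) (i j : Fin n) :
    ArSurf.inter R X (L j) (Γ i) = ArSurf.inter R X (L i) (Γ j) := by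
  by_cases h : i = j
  · rw [h]
  · have hne : Set.range (Γ i).ι.base ≠ Set.range (Γ j).ι.base := fun he => h (hΓ.1 he)
    rw [inter_eq_length hX (Γ i) (isEffCartier_ker hX (Γ j)) (gen_notMem_support hX (Γ i) (Γ j) hne) (L j) (hL j),
      inter_eq_length hX (Γ j) (isEffCartier_ker hX (Γ i)) (gen_notMem_support hX (Γ j) (Γ i) hne.symm) (L i) (hL i),
      sup_comm]

theorem inter_nonneg (hX : ArSurf.IsArithSurface R X) {n : ℕ} {Γ : Fin n → ArSurf.VertComp R X}
    (hΓ : Models.IsComponentList R X Γ) (L : Fin n → X.left.Modules)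
    (hL : ∀ j, ClSub.IsInverseOf (L j) (ClSub.idealMod ((Γ j).ι.ker))) {i j : Fin n} (h : i ≠ j) :
    0 ≤ ArSurf.inter R X (L j) (Γ i) := by
  rw [inter_eq_length hX (Γ i) (isEffCartier_ker hX (Γ j))
    (gen_notMem_support hX (Γ i) (Γ j) fun he => h (hΓ.1 he)) (L j) (hL j)]
  exact Nat.cast_nonneg _

/-- The identity for the form on all the components. -/
theorem form_eq (hX : ArSurf.IsArithSurface R X) {n : ℕ} {Γ : Fin n → ArSurf.VertComp R X}
    (hΓ : Models.IsComponentList R X Γ) (L : Fin n → X.left.Modules)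
    (hL : ∀ j, ClSub.IsInverseOf (L j) (ClSub.idealMod ((Γ j).ι.ker))) (v : Fin n → ℤ) :
    2 * ((∑ i, ∑ j, v i * v j * ArSurf.inter R X (L j) (Γ i) : ℤ) : ℚ) =
      - ∑ i, ∑ j, (Models.mult R X (Γ i) : ℚ) * (Models.mult R X (Γ j) : ℚ) * (ArSurf.inter R X (L j) (Γ i) : ℚ) *
        ((v i : ℚ) / Models.mult R X (Γ i) - (v j : ℚ) / Models.mult R X (Γ j)) ^ 2 := by
  haveI := isProper_hom hX
  have S := setting hX hΓ
  have hd : ∀ i, (Models.mult R X (Γ i) : ℚ) ≠ 0 := fun i => Nat.cast_ne_zero.2 (S.mult_pos i).ne'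
  rw [← quad_eq (fun i j => (ArSurf.inter R X (L j) (Γ i) : ℚ)) (fun i => (Models.mult R X (Γ i) : ℚ))
    (fun i => (v i : ℚ) / Models.mult R X (Γ i)) (fun i j => by rw [inter_comm hX hΓ L hL i j])
    (fun i => by exact_mod_cast S.sum_mult_inter L hL i)]
  push_cast
  congr 1
  refine Finset.sum_congr rfl fun i _ => Finset.sum_congr rfl fun j _ => ?_
  rw [mul_div_cancel₀ _ (hd i), mul_div_cancel₀ _ (hd j)]

theorem form_nonpos (hX : ArSurf.IsArithSurface R X) {n : ℕ} {Γ : Fin n → ArSurf.VertComp R X}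
    (hΓ : Models.IsComponentList R X Γ) (L : Fin n → X.left.Modules)
    (hL : ∀ j, ClSub.IsInverseOf (L j) (ClSub.idealMod ((Γ j).ι.ker))) (v : Fin n → ℤ) :
    ∑ i, ∑ j, v i * v j * ArSurf.inter R X (L j) (Γ i) ≤ 0 := by
  have h := form_eq hX hΓ L hL v
  have h2 : 0 ≤ ∑ i, ∑ j, (Models.mult R X (Γ i) : ℚ) * (Models.mult R X (Γ j) : ℚ) * (ArSurf.inter R X (L j) (Γ i) : ℚ) *
        ((v i : ℚ) / Models.mult R X (Γ i) - (v j : ℚ) / Models.mult R X (Γ j)) ^ 2 := by
    refine Finset.sum_nonneg fun i _ => Finset.sum_nonneg fun j _ => ?_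
    by_cases hij : i = j
    · subst hij; simp
    · have : (0 : ℚ) ≤ (ArSurf.inter R X (L j) (Γ i) : ℚ) := by exact_mod_cast inter_nonneg hX hΓ L hL hij
      positivity
  have h3 : ((∑ i, ∑ j, v i * v j * ArSurf.inter R X (L j) (Γ i) : ℤ) : ℚ) ≤ 0 := by linarith
  exact_mod_cast h3

/-- The form on any finite family of vertical curves, repetitions allowed. -/
theorem form_nonpos_family (hX : ArSurf.IsArithSurface R X) {r : ℕ} (G : Fin r → ArSurf.VertComp R X)
    (L : Fin r → X.left.Modules) (hL : ∀ j, ClSub.IsInverseOf (L j) (ClSub.idealMod ((G j).ι.ker))) (a : Fin r → ℤ) :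
    ∑ i, ∑ j, a i * a j * ArSurf.inter R X (L j) (G i) ≤ 0 := by
  classical
  haveI := isProper_hom hX
  obtain ⟨n, Γ, hΓ⟩ := exists_componentList hX
  choose σ e he using fun j => MdlInter.exists_iso_component (setting hX hΓ) (G j)
  choose L₀ hL₀i hL₀ using fun i => H23.PicInv.exists_inverse (isInvertible_idealMod hX (Γ i))
  have hL₀' : ∀ i, ClSub.IsInverseOf (L₀ i) (ClSub.idealMod ((Γ i).ι.ker)) := fun i => by
    refine cl_eq_iff.1 ?_
    rw [cl_tensor, mul_comm, ← cl_tensor]
    exact cl_eq_iff.2 (hL₀ i)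
  have key : ∀ i j, ArSurf.inter R X (L j) (G i) = ArSurf.inter R X (L₀ (σ j)) (Γ (σ i)) := fun i j => by
    have hLj := (inter_inverse hX (isInvertible_idealMod hX (G j)) (hL j) (G i)).1
    have hker : (Γ (σ j)).ι.ker = (G j).ι.ker :=
      (congrArg Scheme.Hom.ker (he j).symm).trans (Scheme.Hom.ker_comp_of_isIso (e j).hom (G j).ι)
    rw [← inter_of_iso hX (Γ (σ i)) (G i) (e i) (he i) hLj]
    refine MdlInter.inter_congr (p := X.hom) (Γ (σ i)) hLj (hL₀i _) ?_
    have h1 : PicF.cl (L j) * PicF.cl (ClSub.idealMod ((G j).ι.ker)) = 1 := by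
      rw [← cl_tensor, one_def]; exact cl_eq_iff.2 (hL j)
    have h2 : PicF.cl (L₀ (σ j)) * PicF.cl (ClSub.idealMod ((G j).ι.ker)) = 1 := by
      rw [← hker, ← cl_tensor, one_def]; exact cl_eq_iff.2 (hL₀' _)
    exact left_inv_eq_right_inv h1 (by rw [mul_comm]; exact h2)
  refine le_trans (le_of_eq ?_) (form_nonpos hX hΓ L₀ hL₀' fun i => ∑ j ∈ Finset.univ.filter (fun j => σ j = i), a j)
  simp only [key]
  rw [← Finset.sum_fiberwise Finset.univ σ fun i => ∑ j, a i * a j * ArSurf.inter R X (L₀ (σ j)) (Γ (σ i))]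
  refine Finset.sum_congr rfl fun i' _ => ?_
  rw [Finset.sum_congr rfl fun i hi => by
    rw [(Finset.mem_filter.1 hi).2,
      ← Finset.sum_fiberwise Finset.univ σ fun j => a i * a j * ArSurf.inter R X (L₀ (σ j)) (Γ i')],
    Finset.sum_comm]
  refine Finset.sum_congr rfl fun j' _ => ?_
  rw [Finset.sum_mul_sum, Finset.sum_mul]
  refine Finset.sum_congr rfl fun i _ => ?_
  rw [Finset.sum_mul]
  exact Finset.sum_congr rfl fun j hj => by rw [(Finset.mem_filter.1 hj).2]

/-- A family of distinct vertical curves covering the closed fibre lists its components. -/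
theorem isComponentList_of_cover (hX : ArSurf.IsArithSurface R X) {r : ℕ} (Γ : Fin r → ArSurf.VertComp R X)
    (hdist : Function.Injective fun i => Set.range (Γ i).ι.base)
    (hcov : ∀ x : X.left, X.hom.base x = IsLocalRing.closedPoint R → ∃ i, x ∈ Set.range (Γ i).ι.base) :
    Models.IsComponentList R X Γ := by
  haveI := isLocallyNoetherian hX
  have hsub : ∀ i, IsIrreducible (Set.range (Γ i).ι.base) ∧
      Set.range (Γ i).ι.base ⊆ Models.specialFibreSet R X := fun i =>
    ⟨by
      show IsIrreducible (Set.range (Γ i).ι)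
      rw [MdlInter.range_eq_closure_gen (Γ i).ι]
      exact isIrreducible_singleton.closure, by
      rintro _ ⟨z, rfl⟩
      exact image_mem_specialFibreSet (Γ i) z⟩
  refine ⟨hdist, Set.Subset.antisymm ?_ ?_⟩
  · rintro _ ⟨i, rfl⟩
    refine ⟨hsub i, fun T hT hle => ?_⟩
    obtain ⟨η, hη⟩ := QuasiSober.sober hT.1.closure isClosed_closure
    set g := (Γ i).ι (genericPoint (Γ i).curve.left)
    have hηg : η ⤳ g := hη.specializes (subset_closure (hle ⟨_, rfl⟩))
    have hηF : η ∈ Models.specialFibreSet R X :=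
      (Models.isClosed_specialFibreSet R X).closure_subset_iff.2 hT.2 hη.mem
    have heq : η = g := by
      by_contra hne
      have h1 : DimFormula.codim g = 1 := by
        have := ringKrullDim_stalk_gen hX (Γ i)
        rw [DimFormula.ringKrullDim_stalk] at this
        exact_mod_cast this
      have h2 := DimFormula.codim_mono_add hηg
      have h3 : DimFormula.cd η g ≠ 0 := fun h0 => hne ((DimFormula.cd_eq_zero_iff hηg).1 h0)
      exact gen_over_bot hX η (DimFormula.codim_eq_zero_iff.1 (by omega)) hηF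
    intro t ht
    show t ∈ Set.range (Γ i).ι
    rw [MdlInter.range_eq_closure_gen (Γ i).ι]
    have h4 := hη.specializes (subset_closure ht)
    rw [heq] at h4
    exact specializes_iff_mem_closure.1 h4
  · intro S hS
    have hcl : IsClosed S := closure_subset_iff_isClosed.1
      (hS.2 ⟨hS.1.1.closure, (Models.isClosed_specialFibreSet R X).closure_subset_iff.2 hS.1.2⟩ subset_closure)
    obtain ⟨ξ, hξ⟩ := QuasiSober.sober hS.1.1 hcl
    obtain ⟨i, hi⟩ := hcov ξ (hS.1.2 hξ.mem)
    refine ⟨i, ?_⟩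
    have h1 : S ⊆ Set.range (Γ i).ι.base := by
      rw [← hξ.def]
      exact (Γ i).ι.isClosedEmbedding.isClosed_range.closure_subset_iff.2 (Set.singleton_subset_iff.2 hi)
    exact Set.Subset.antisymm (hS.2 (hsub i) h1) h1

/-- The kernel of the intersection form, for a connected closed fibre. -/
theorem kernel_iff (hX : ArSurf.IsArithSurface R X)
    (hconn : _root_.IsConnected (Models.specialFibreSet R X)) {n : ℕ} {Γ : Fin n → ArSurf.VertComp R X}
    (hΓ : Models.IsComponentList R X Γ) (L : Fin n → X.left.Modules)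
    (hL : ∀ j, ClSub.IsInverseOf (L j) (ClSub.idealMod ((Γ j).ι.ker))) (a : Fin n → ℤ) :
    (∀ i, ∑ j, a j * ArSurf.inter R X (L j) (Γ i) = 0) ↔
      ∃ c : ℚ, ∀ i, (a i : ℚ) = c * (Models.mult R X (Γ i) : ℚ) := by
  haveI := isProper_hom hX
  have S := setting hX hΓ
  have hd : ∀ i, (Models.mult R X (Γ i) : ℚ) ≠ 0 := fun i => Nat.cast_ne_zero.2 (S.mult_pos i).ne'
  constructor
  · intro h
    have hq := form_eq hX hΓ L hL a
    have h0 : ∑ i, ∑ j, a i * a j * ArSurf.inter R X (L j) (Γ i) = 0 := by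
      refine Finset.sum_eq_zero fun i _ => ?_
      rw [show (∑ j, a i * a j * ArSurf.inter R X (L j) (Γ i)) = a i * ∑ j, a j * ArSurf.inter R X (L j) (Γ i) by
        rw [Finset.mul_sum]; exact Finset.sum_congr rfl fun j _ => by ring, h i, mul_zero]
    rw [h0, Int.cast_zero, mul_zero] at hq
    have hnn : ∀ i j, (0 : ℚ) ≤ (Models.mult R X (Γ i) : ℚ) * (Models.mult R X (Γ j) : ℚ) *
        (ArSurf.inter R X (L j) (Γ i) : ℚ) *
        ((a i : ℚ) / Models.mult R X (Γ i) - (a j : ℚ) / Models.mult R X (Γ j)) ^ 2 := fun i j => by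
      by_cases hij : i = j
      · subst hij; simp
      · have : (0 : ℚ) ≤ (ArSurf.inter R X (L j) (Γ i) : ℚ) := by exact_mod_cast inter_nonneg hX hΓ L hL hij
        positivity
    have hzero := fun i j => (Finset.sum_eq_zero_iff_of_nonneg fun j _ => hnn i j).1
      ((Finset.sum_eq_zero_iff_of_nonneg fun i _ => Finset.sum_nonneg fun j _ => hnn i j).1
        (by linarith [hq]) i (Finset.mem_univ i)) j (Finset.mem_univ j)
    obtain ⟨x₀, hx₀⟩ := hconn.nonempty
    obtain ⟨i₀, hi₀⟩ := S.exists_gp hx₀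
    refine ⟨(a i₀ : ℚ) / Models.mult R X (Γ i₀), fun i => ?_⟩
    suffices (a i : ℚ) / Models.mult R X (Γ i) = (a i₀ : ℚ) / Models.mult R X (Γ i₀) by
      rw [← this, div_mul_cancel₀ _ (hd i)]
    by_contra hne
    let I : Set (Fin n) := {i | (a i : ℚ) / Models.mult R X (Γ i) = (a i₀ : ℚ) / Models.mult R X (Γ i₀)}
    have hcl : ∀ J : Set (Fin n), IsClosed (⋃ i ∈ J, Set.range (Γ i).ι) := fun J =>
      (Set.toFinite J).isClosed_biUnion fun i _ => (Γ i).ι.isClosedEmbedding.isClosed_range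
    have hsub : Models.specialFibreSet R X ⊆ (⋃ i ∈ I, Set.range (Γ i).ι) ∪ ⋃ i ∈ Iᶜ, Set.range (Γ i).ι := by
      intro x hx
      obtain ⟨j, hj⟩ := S.exists_gp hx
      have hxj : x ∈ Set.range (Γ j).ι := (MdlInter.mem_range_iff (Γ j).ι).2 hj
      by_cases hjI : j ∈ I
      · exact Or.inl (Set.mem_biUnion hjI hxj)
      · exact Or.inr (Set.mem_biUnion hjI hxj)
    obtain ⟨x, -, hxI, hxI'⟩ := isPreconnected_closed_iff.1 hconn.isPreconnected _ _ (hcl I) (hcl Iᶜ) hsub
      ⟨_, image_mem_specialFibreSet (Γ i₀) (genericPoint _), Set.mem_biUnion (show i₀ ∈ I from rfl) ⟨_, rfl⟩⟩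
      ⟨_, image_mem_specialFibreSet (Γ i) (genericPoint _), Set.mem_biUnion (show i ∈ Iᶜ from hne) ⟨_, rfl⟩⟩
    obtain ⟨p, hp, hxp⟩ := Set.mem_iUnion₂.1 hxI
    obtain ⟨q, hq', hxq⟩ := Set.mem_iUnion₂.1 hxI'
    have hpq : p ≠ q := fun e => hq' (e ▸ hp)
    have hM : ArSurf.inter R X (L q) (Γ p) ≠ 0 := fun h0 => by
      have hdis := (inter_eq_zero_iff hX (Γ p) (isEffCartier_ker hX (Γ q))
        (gen_notMem_support hX (Γ p) (Γ q) fun he => hpq (hΓ.1 he)) (L q) (hL q)).1 h0
      refine Set.disjoint_left.1 hdis hxp ?_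
      rw [Scheme.Hom.support_ker]
      exact subset_closure hxq
    have hz := hzero p q
    simp only [mul_eq_zero, Int.cast_eq_zero, hd p, hd q, hM, false_or, pow_eq_zero_iff two_ne_zero, sub_eq_zero] at hz
    exact hq' (hz.symm.trans hp)
  · rintro ⟨c, hc⟩ i
    have h1 : ((∑ j, a j * ArSurf.inter R X (L j) (Γ i) : ℤ) : ℚ) =
        c * ((∑ j, (Models.mult R X (Γ j) : ℤ) * ArSurf.inter R X (L j) (Γ i) : ℤ) : ℚ) := by
      push_cast
      rw [Finset.mul_sum]
      exact Finset.sum_congr rfl fun j _ => by rw [hc j, mul_assoc]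
    have h2 : (∑ j, (Models.mult R X (Γ j) : ℤ) * ArSurf.inter R X (L j) (Γ i)) = 0 := S.sum_mult_inter L hL i
    rw [h2, Int.cast_zero, mul_zero] at h1
    exact_mod_cast h1

end Groth.Agent.ArSurfInter
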